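import Mathlib
import Groth.Agent.Lib.Helper7.Milnor5

set_option autoImplicit false
universe u
open TensorProduct

namespace Groth.Agent.H5.Pinch

section
variable {R S T : Type u} [CommRing R] [CommRing S] [CommRing T] [Algebra R S] [Algebra R T]

/-- the ideal of `S` generated by the kernel of `R → T`. -/
abbrev J (R S T : Type u) [CommRing R] [CommRing S] [CommRing T] [Algebra R S] [Algebra R T] :
    Ideal S :=
  Ideal.map (algebraMap R S) (RingHom.ker (algebraMap R T))

/-- the corner ring `S / I S` of the pinching square. -/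
abbrev Corner (R S T : Type u) [CommRing R] [CommRing S] [CommRing T] [Algebra R S]
    [Algebra R T] : Type u :=
  S ⧸ J R S T

variable (hπ : Function.Surjective (algebraMap R T))

/-- the map `T → S / I S`. -/
noncomputable def cornerHom : T →+* Corner R S T :=
  RingHom.liftOfSurjective (algebraMap R T) hπ
    ⟨algebraMap R (Corner R S T), fun r hr => by
      rw [RingHom.mem_ker, IsScalarTower.algebraMap_apply R S (Corner R S T),
        Ideal.Quotient.algebraMap_eq, Ideal.Quotient.eq_zero_iff_mem]
      exact Ideal.mem_map_of_mem _ hr⟩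

lemma cornerHom_algebraMap (r : R) :
    cornerHom hπ (algebraMap R T r) = algebraMap R (Corner R S T) r := by
  unfold cornerHom
  exact RingHom.liftOfRightInverse_comp_apply _ _ _ _ r

/-- the algebra structure of the corner over `T`. -/
@[reducible] noncomputable def cornerAlgebra : Algebra T (Corner R S T) :=
  (cornerHom hπ).toAlgebra

lemma corner_isScalarTower :
    letI := cornerAlgebra (S := S) hπ
    IsScalarTower R T (Corner R S T) := by
  letI := cornerAlgebra (S := S) hπ
  exact IsScalarTower.of_algebraMap_eq fun r => (cornerHom_algebraMap hπ r).symm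

variable (h1 : RingHom.ker (algebraMap R S) ⊓ RingHom.ker (algebraMap R T) = ⊥)
  (h2 : ∀ a ∈ J R S T, ∃ i ∈ RingHom.ker (algebraMap R T), algebraMap R S i = a)

include h1 h2 in
/-- the pinching square is a fibre square. -/
theorem isFibreSquare :
    letI := cornerAlgebra (S := S) hπ
    haveI := corner_isScalarTower (S := S) hπ
    EtMil.IsFibreSquare R T S (Corner R S T) := by
  letI := cornerAlgebra (S := S) hπ
  haveI := corner_isScalarTower (S := S) hπ
  refine ⟨Ideal.Quotient.mk_surjective, fun t s hts => ?_⟩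
  obtain ⟨r₀, rfl⟩ := hπ t
  have hmem : s - algebraMap R S r₀ ∈ J R S T := by
    rw [← Ideal.Quotient.eq_zero_iff_mem, map_sub, sub_eq_zero]
    have e1 : algebraMap T (Corner R S T) (algebraMap R T r₀) =
        algebraMap R (Corner R S T) r₀ := cornerHom_algebraMap hπ r₀
    rw [e1, IsScalarTower.algebraMap_apply R S (Corner R S T)] at hts
    exact hts.symm
  obtain ⟨i, hi, hi2⟩ := h2 _ hmem
  refine ⟨r₀ + i, ⟨?_, ?_⟩, ?_⟩
  · rw [map_add, (RingHom.mem_ker).1 hi, add_zero]
  · rw [map_add, hi2]; ring
  · rintro y ⟨hy1, hy2⟩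
    have hd : y - (r₀ + i) ∈ RingHom.ker (algebraMap R S) ⊓ RingHom.ker (algebraMap R T) := by
      refine ⟨?_, ?_⟩
      · rw [SetLike.mem_coe, RingHom.mem_ker, map_sub, hy2, map_add, hi2]; ring
      · rw [SetLike.mem_coe, RingHom.mem_ker, map_sub, hy1, map_add, (RingHom.mem_ker).1 hi]
        ring
    rw [h1] at hd
    exact sub_eq_zero.1 hd

variable (M : Type u) [AddCommGroup M] [Module R M]

include hπ h1 h2 in
theorem subsingleton_of_pair [Subsingleton (T ⊗[R] M)] [Subsingleton (S ⊗[R] M)] :
    Subsingleton M := by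
  letI := cornerAlgebra (S := S) hπ
  haveI := corner_isScalarTower (S := S) hπ
  exact Groth.Agent.H7.Milnor.S14949 (isFibreSquare hπ h1 h2) M

include hπ h1 h2 in
theorem flat_of_pair [Module.Flat T (T ⊗[R] M)] [Module.Flat S (S ⊗[R] M)] :
    Module.Flat R M := by
  letI := cornerAlgebra (S := S) hπ
  haveI := corner_isScalarTower (S := S) hπ
  exact Groth.Agent.H7.Milnor.S14952 (isFibreSquare hπ h1 h2) M

include hπ h1 h2 in
theorem finite_of_pair [Module.Finite T (T ⊗[R] M)] [Module.Finite S (S ⊗[R] M)] :
    Module.Finite R M := by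
  letI := cornerAlgebra (S := S) hπ
  haveI := corner_isScalarTower (S := S) hπ
  exact Groth.Agent.H7.Milnor.S14953 (isFibreSquare hπ h1 h2) M

include hπ h1 h2 in
theorem finitePresentation_of_pair [Module.Flat T (T ⊗[R] M)]
    [Module.FinitePresentation T (T ⊗[R] M)] [Module.Flat S (S ⊗[R] M)]
    [Module.FinitePresentation S (S ⊗[R] M)] :
    Module.FinitePresentation R M := by
  letI := cornerAlgebra (S := S) hπ
  haveI := corner_isScalarTower (S := S) hπ
  exact Groth.Agent.H7.Milnor.S14954 (isFibreSquare hπ h1 h2) M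

end

end Groth.Agent.H5.Pinch
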