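import Mathlib
import Groth.Agent.Lib.Helper5.Pinch.A
import Groth.Agent.Lib.Helper5.Lim.ModuleBridge
import Groth.Agent.Lib.Lead.QC.LocFree3
import Groth.Agent.Lib.Lead.QC.SuppPullback
import Groth.Agent.Lib.Lead.QC.FinType
import Groth.Agent.Lib.Lead.QC.Pullback

set_option autoImplicit false
universe u
open CategoryTheory CategoryTheory.Limits AlgebraicGeometry Opposite TopologicalSpace TensorProduct
open Groth.Agent.LD.QC

namespace Groth.Agent.H5.Pinch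

section General

variable {X Y : Scheme.{u}} (h : X ⟶ Y)

/-- sections of the pullback of a quasi-coherent module over an affine open, as a tensor product. -/
lemma nonempty_sections_equiv {U : X.Opens} {V : Y.Opens} (hU : IsAffineOpen U)
    (hV : IsAffineOpen V) (e : U ≤ h ⁻¹ᵁ V) (G : Y.Modules) [G.IsQuasicoherent] :
    letI := (h.appLE V U e).hom.toAlgebra
    Nonempty (Γ(X, U) ⊗[Γ(Y, V)] Γ(G, V) ≃ₗ[Γ(X, U)]
      Γ((Scheme.Modules.pullback h).obj G, U)) := by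
  letI := (h.appLE V U e).hom.toAlgebra
  letI := pbModule h G e
  haveI : IsScalarTower Γ(Y, V) Γ(X, U) Γ((Scheme.Modules.pullback h).obj G, U) :=
    pbModule_isScalarTower h G e
  have hst : IsBaseChange Γ(X, U) (pbSecₗ h G e) := isBaseChange_pbSec h hU hV e G
  exact ⟨hst.equiv⟩

/-- the pullback of a flat quasi-coherent module is flat. -/
theorem isFlat_pullback (G : Y.Modules) [G.IsQuasicoherent] (hG : FlatMod.IsFlat G) :
    FlatMod.IsFlat ((Scheme.Modules.pullback h).obj G) := by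
  haveI := qc_pullback h G
  intro x
  obtain ⟨V, hV, hxV, -⟩ := exists_isAffineOpen_mem_and_subset (x := h x) (U := ⊤) trivial
  obtain ⟨U, hU, hxU, hUV⟩ := exists_isAffineOpen_mem_and_subset (x := x) (U := h ⁻¹ᵁ V) hxV
  letI := (h.appLE V U hUV).hom.toAlgebra
  obtain ⟨e⟩ := nonempty_sections_equiv h hU hV hUV G
  haveI : Module.Flat Γ(Y, V) Γ(G, V) := flat_sections_of_flat_stalks G hV fun y _ => hG y
  have : Module.Flat Γ(X, U) Γ((Scheme.Modules.pullback h).obj G, U) :=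
    Module.Flat.of_linearEquiv e.symm
  exact flat_stalk_of_flat_sections _ hU x hxU this

end General

section Pinch

variable {X Y Y' : Scheme.{u}} (f : X ⟶ Y) (u : Y' ⟶ Y) [IsAffineHom f] [IsClosedImmersion u]
  (hM : ∀ V ∈ Y.affineOpens,
      RingHom.ker (f.app V).hom ⊓ RingHom.ker (u.app V).hom = ⊥ ∧
      ∀ a ∈ Ideal.map (f.app V).hom (RingHom.ker (u.app V).hom),
        ∃ i ∈ RingHom.ker (u.app V).hom, (f.app V).hom i = a)
  (G : Y.Modules) [G.IsQuasicoherent]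

include hM in
/-- the local (affine) form of the descent statements along a pinching. -/
theorem local_core {V : Y.Opens} (hV : IsAffineOpen V) :
    (Subsingleton Γ((Scheme.Modules.pullback u).obj G, u ⁻¹ᵁ V) →
      Subsingleton Γ((Scheme.Modules.pullback f).obj G, f ⁻¹ᵁ V) → Subsingleton Γ(G, V)) ∧
    (Module.Flat Γ(Y', u ⁻¹ᵁ V) Γ((Scheme.Modules.pullback u).obj G, u ⁻¹ᵁ V) →
      Module.Flat Γ(X, f ⁻¹ᵁ V) Γ((Scheme.Modules.pullback f).obj G, f ⁻¹ᵁ V) →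
      Module.Flat Γ(Y, V) Γ(G, V)) ∧
    (Module.Finite Γ(Y', u ⁻¹ᵁ V) Γ((Scheme.Modules.pullback u).obj G, u ⁻¹ᵁ V) →
      Module.Finite Γ(X, f ⁻¹ᵁ V) Γ((Scheme.Modules.pullback f).obj G, f ⁻¹ᵁ V) →
      Module.Finite Γ(Y, V) Γ(G, V)) ∧
    (Module.Flat Γ(Y', u ⁻¹ᵁ V) Γ((Scheme.Modules.pullback u).obj G, u ⁻¹ᵁ V) →
      Module.FinitePresentation Γ(Y', u ⁻¹ᵁ V) Γ((Scheme.Modules.pullback u).obj G, u ⁻¹ᵁ V) →
      Module.Flat Γ(X, f ⁻¹ᵁ V) Γ((Scheme.Modules.pullback f).obj G, f ⁻¹ᵁ V) →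
      Module.FinitePresentation Γ(X, f ⁻¹ᵁ V) Γ((Scheme.Modules.pullback f).obj G, f ⁻¹ᵁ V) →
      Module.FinitePresentation Γ(Y, V) Γ(G, V)) := by
  have hVX : IsAffineOpen (f ⁻¹ᵁ V) := hV.preimage f
  have hVY' : IsAffineOpen (u ⁻¹ᵁ V) := hV.preimage u
  letI algS : Algebra Γ(Y, V) Γ(X, f ⁻¹ᵁ V) := (f.appLE V (f ⁻¹ᵁ V) le_rfl).hom.toAlgebra
  letI algT : Algebra Γ(Y, V) Γ(Y', u ⁻¹ᵁ V) := (u.appLE V (u ⁻¹ᵁ V) le_rfl).hom.toAlgebra
  have keyf : f.appLE V (f ⁻¹ᵁ V) le_rfl = f.app V := Scheme.Hom.appLE_eq_app f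
  have keyu : u.appLE V (u ⁻¹ᵁ V) le_rfl = u.app V := Scheme.Hom.appLE_eq_app u
  have hπ : Function.Surjective (algebraMap Γ(Y, V) Γ(Y', u ⁻¹ᵁ V)) := by
    change Function.Surjective (u.appLE V (u ⁻¹ᵁ V) le_rfl).hom
    rw [keyu]
    exact Scheme.Hom.app_surjective u V hV
  have h1 : RingHom.ker (algebraMap Γ(Y, V) Γ(X, f ⁻¹ᵁ V)) ⊓
      RingHom.ker (algebraMap Γ(Y, V) Γ(Y', u ⁻¹ᵁ V)) = ⊥ := by
    change RingHom.ker (f.appLE V (f ⁻¹ᵁ V) le_rfl).hom ⊓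
      RingHom.ker (u.appLE V (u ⁻¹ᵁ V) le_rfl).hom = ⊥
    rw [keyf, keyu]
    exact (hM V hV).1
  have h2 : ∀ a ∈ J Γ(Y, V) Γ(X, f ⁻¹ᵁ V) Γ(Y', u ⁻¹ᵁ V),
      ∃ i ∈ RingHom.ker (algebraMap Γ(Y, V) Γ(Y', u ⁻¹ᵁ V)),
        algebraMap Γ(Y, V) Γ(X, f ⁻¹ᵁ V) i = a := by
    change ∀ a ∈ Ideal.map (f.appLE V (f ⁻¹ᵁ V) le_rfl).hom
        (RingHom.ker (u.appLE V (u ⁻¹ᵁ V) le_rfl).hom),
      ∃ i ∈ RingHom.ker (u.appLE V (u ⁻¹ᵁ V) le_rfl).hom,
        (f.appLE V (f ⁻¹ᵁ V) le_rfl).hom i = a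
    rw [keyf, keyu]
    exact (hM V hV).2
  obtain ⟨eS⟩ := nonempty_sections_equiv f hVX hV le_rfl G
  obtain ⟨eT⟩ := nonempty_sections_equiv u hVY' hV le_rfl G
  refine ⟨fun hT hS => ?_, fun hT hS => ?_, fun hT hS => ?_, fun hT hT' hS hS' => ?_⟩
  · haveI : Subsingleton (Γ(Y', u ⁻¹ᵁ V) ⊗[Γ(Y, V)] Γ(G, V)) := eT.toEquiv.subsingleton
    haveI : Subsingleton (Γ(X, f ⁻¹ᵁ V) ⊗[Γ(Y, V)] Γ(G, V)) := eS.toEquiv.subsingleton
    exact subsingleton_of_pair hπ h1 h2 Γ(G, V)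
  · haveI : Module.Flat Γ(Y', u ⁻¹ᵁ V) (Γ(Y', u ⁻¹ᵁ V) ⊗[Γ(Y, V)] Γ(G, V)) :=
      Module.Flat.of_linearEquiv eT
    haveI : Module.Flat Γ(X, f ⁻¹ᵁ V) (Γ(X, f ⁻¹ᵁ V) ⊗[Γ(Y, V)] Γ(G, V)) :=
      Module.Flat.of_linearEquiv eS
    exact flat_of_pair hπ h1 h2 Γ(G, V)
  · haveI : Module.Finite Γ(Y', u ⁻¹ᵁ V) (Γ(Y', u ⁻¹ᵁ V) ⊗[Γ(Y, V)] Γ(G, V)) :=
      Module.Finite.equiv eT.symm
    haveI : Module.Finite Γ(X, f ⁻¹ᵁ V) (Γ(X, f ⁻¹ᵁ V) ⊗[Γ(Y, V)] Γ(G, V)) :=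
      Module.Finite.equiv eS.symm
    exact finite_of_pair hπ h1 h2 Γ(G, V)
  · haveI : Module.Flat Γ(Y', u ⁻¹ᵁ V) (Γ(Y', u ⁻¹ᵁ V) ⊗[Γ(Y, V)] Γ(G, V)) :=
      Module.Flat.of_linearEquiv eT
    haveI : Module.Flat Γ(X, f ⁻¹ᵁ V) (Γ(X, f ⁻¹ᵁ V) ⊗[Γ(Y, V)] Γ(G, V)) :=
      Module.Flat.of_linearEquiv eS
    haveI : Module.FinitePresentation Γ(Y', u ⁻¹ᵁ V)
        (Γ(Y', u ⁻¹ᵁ V) ⊗[Γ(Y, V)] Γ(G, V)) :=
      Module.FinitePresentation.of_equiv eT.symm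
    haveI : Module.FinitePresentation Γ(X, f ⁻¹ᵁ V) (Γ(X, f ⁻¹ᵁ V) ⊗[Γ(Y, V)] Γ(G, V)) :=
      Module.FinitePresentation.of_equiv eS.symm
    exact finitePresentation_of_pair hπ h1 h2 Γ(G, V)

include hM in
theorem isZero_of_pair (h1 : IsZero ((Scheme.Modules.pullback u).obj G))
    (h2 : IsZero ((Scheme.Modules.pullback f).obj G)) : IsZero G := by
  apply isZero_of_affine_cover
  intro y
  obtain ⟨V, hV, hyV, -⟩ := exists_isAffineOpen_mem_and_subset (x := y) (U := ⊤) trivial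
  refine ⟨V, hV, hyV, ?_⟩
  have hs := (local_core f u hM G hV).1
    ⟨fun a b => (section_eq_zero_of_isZero _ h1 a).trans (section_eq_zero_of_isZero _ h1 b).symm⟩
    ⟨fun a b => (section_eq_zero_of_isZero _ h2 a).trans (section_eq_zero_of_isZero _ h2 b).symm⟩
  intro s
  exact Subsingleton.elim _ _

include hM in
theorem isFlat_iff :
    FlatMod.IsFlat G ↔
      FlatMod.IsFlat ((Scheme.Modules.pullback u).obj G) ∧
        FlatMod.IsFlat ((Scheme.Modules.pullback f).obj G) := by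
  refine ⟨fun h => ⟨isFlat_pullback u G h, isFlat_pullback f G h⟩, fun ⟨h1, h2⟩ y => ?_⟩
  haveI := qc_pullback u G
  haveI := qc_pullback f G
  obtain ⟨V, hV, hyV, -⟩ := exists_isAffineOpen_mem_and_subset (x := y) (U := ⊤) trivial
  have hfl := (local_core f u hM G hV).2.1
    (flat_sections_of_flat_stalks _ (hV.preimage u) fun x _ => h1 x)
    (flat_sections_of_flat_stalks _ (hV.preimage f) fun x _ => h2 x)
  exact flat_stalk_of_flat_sections G hV y hyV hfl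

include hM in
theorem isFiniteType_iff :
    SheafOfModules.IsFiniteType G ↔
      SheafOfModules.IsFiniteType ((Scheme.Modules.pullback u).obj G) ∧
        SheafOfModules.IsFiniteType ((Scheme.Modules.pullback f).obj G) := by
  refine ⟨fun h => ⟨isFiniteType_pullback u G h, isFiniteType_pullback f G h⟩, fun ⟨h1, h2⟩ => ?_⟩
  haveI := qc_pullback u G
  haveI := qc_pullback f G
  rw [isFiniteType_iff_finite_sections]
  intro V hV
  exact (local_core f u hM G hV).2.2.1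
    (finite_sections_of_isFiniteType _ h1 (hV.preimage u))
    (finite_sections_of_isFiniteType _ h2 (hV.preimage f))

include hM in
theorem isFinLocFree_iff :
    FlatMod.IsFinLocFree G ↔
      FlatMod.IsFinLocFree ((Scheme.Modules.pullback u).obj G) ∧
        FlatMod.IsFinLocFree ((Scheme.Modules.pullback f).obj G) := by
  refine ⟨fun h => ⟨isFinLocFree_pullback u G h, isFinLocFree_pullback f G h⟩,
    fun ⟨h1, h2⟩ => ?_⟩
  haveI := qc_pullback u G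
  haveI := qc_pullback f G
  rw [isFinLocFree_iff_sections]
  intro V hV
  have a1 := (isFinLocFree_iff_sections _).1 h1 _ (hV.preimage u)
  have a2 := (isFinLocFree_iff_sections _).1 h2 _ (hV.preimage f)
  exact ⟨(local_core f u hM G hV).2.2.2 a1.2 a1.1 a2.2 a2.1,
    (local_core f u hM G hV).2.1 a1.2 a2.2⟩

end Pinch

end Groth.Agent.H5.Pinch
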